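import Mathlib

/-! Ideals of subalgebras of a product of power series rings with a conductor. -/

namespace Groth.Agent.H27Hilb

open PowerSeries

universe u
variable {k : Type u} [Field k] {s : ℕ} (R : Subalgebra k (Fin s → PowerSeries k)) (c : Fin s → ℕ)

theorem mem_of_order_ge
    (hc : ∀ f : Fin s → PowerSeries k,
      (∀ g : Fin s → PowerSeries k, g * f ∈ R) ↔ ∀ i, ((c i : ℕ) : ℕ∞) ≤ (f i).order)
    (J : Ideal ↥R) (l : Fin s → ℕ)
    (hl : ∀ i : Fin s, ∃ f ∈ J, ((f : Fin s → PowerSeries k) i).order = ((l i : ℕ) : ℕ∞))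
    (g : Fin s → PowerSeries k) (hg : ∀ i : Fin s, ((l i + c i : ℕ) : ℕ∞) ≤ (g i).order) :
    ∃ hgR : g ∈ R, (⟨g, hgR⟩ : ↥R) ∈ J := by
  classical
  choose f hfJ hf using hl
  have hsingle : ∀ i, ∃ u : ↥R, ((u * f i : ↥R) : Fin s → PowerSeries k) = Pi.single i (g i) := by
    intro i
    obtain ⟨v, hv⟩ : X ^ (l i + c i) ∣ g i := by
      rw [X_pow_dvd_iff]
      exact fun m hm => coeff_of_lt_order m (lt_of_lt_of_le (by exact_mod_cast hm) (hg i))
    set φ := (f i : Fin s → PowerSeries k) i with hφ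
    obtain ⟨ψ, hψ⟩ : X ^ l i ∣ φ := by
      rw [X_pow_dvd_iff]
      exact fun m hm => coeff_of_lt_order m (by rw [hφ, hf i]; exact_mod_cast hm)
    have hψu : IsUnit ψ := by
      rw [isUnit_iff_constantCoeff, isUnit_iff_ne_zero, ← coeff_zero_eq_constantCoeff_apply]
      have h1 := (order_eq_nat.mp (hf i)).1
      rw [← hφ, hψ, show l i = 0 + l i from (zero_add _).symm, coeff_X_pow_mul'] at h1
      simpa using h1
    obtain ⟨ψu, rfl⟩ := hψu
    let z : PowerSeries k := ((ψu⁻¹ : (PowerSeries k)ˣ) : PowerSeries k)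
    let w : PowerSeries k := X ^ c i * v * z
    have hw : ∀ j, ((c j : ℕ) : ℕ∞) ≤ ((Pi.single i w : Fin s → PowerSeries k) j).order := by
      intro j
      rcases eq_or_ne j i with rfl | hj
      · refine nat_le_order _ _ fun m hm => ?_
        simp only [Pi.single_eq_same, w, mul_assoc, coeff_X_pow_mul']
        exact if_neg (not_le.mpr hm)
      · rw [Pi.single_eq_of_ne hj, order_zero]
        exact le_top
    refine ⟨⟨Pi.single i w, by simpa using (hc _).mpr hw 1⟩, ?_⟩
    rw [MulMemClass.coe_mul]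
    funext j
    rcases eq_or_ne j i with rfl | hj
    · simp only [Pi.mul_apply, Pi.single_eq_same]
      rw [hv, ← hφ, hψ]
      calc X ^ c j * v * z * (X ^ l j * ↑ψu) = X ^ (l j + c j) * v * (z * ↑ψu) := by ring
        _ = _ := by rw [Units.inv_mul, mul_one]
    · simp only [Pi.mul_apply, Pi.single_eq_of_ne hj, zero_mul]
  choose u hu using hsingle
  have hsum : g = ((∑ i, u i * f i : ↥R) : Fin s → PowerSeries k) := by
    rw [AddSubmonoidClass.coe_finsetSum]
    simp only [hu]
    exact (Finset.univ_sum_single g).symm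
  refine ⟨hsum ▸ (∑ i, u i * f i : ↥R).2, ?_⟩
  rw [show (⟨g, _⟩ : ↥R) = ∑ i, u i * f i from Subtype.ext hsum]
  exact sum_mem fun i _ => J.mul_mem_left _ (hfJ i)

theorem order_ge_and_attained (I : Ideal ↥R) (a : Fin s → ℕ)
    (ha : ∀ i : Fin s, Ideal.map ((Pi.evalAlgHom k (fun _ : Fin s => PowerSeries k) i).comp R.val) I =
      Ideal.span {PowerSeries.X ^ (a i)}) :
    (∀ f ∈ I, ∀ i : Fin s, ((a i : ℕ) : ℕ∞) ≤ ((f : Fin s → PowerSeries k) i).order) ∧
      ∀ i : Fin s, ∃ f ∈ I, ((f : Fin s → PowerSeries k) i).order = ((a i : ℕ) : ℕ∞) := by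
  have hge : ∀ f ∈ I, ∀ i : Fin s, ((a i : ℕ) : ℕ∞) ≤ ((f : Fin s → PowerSeries k) i).order := by
    intro f hf i
    have h := Ideal.mem_map_of_mem ((Pi.evalAlgHom k (fun _ : Fin s => PowerSeries k) i).comp R.val) hf
    rw [ha i, Ideal.mem_span_singleton, X_pow_dvd_iff] at h
    exact nat_le_order _ _ h
  refine ⟨hge, fun i => ?_⟩
  by_contra hne
  push Not at hne
  have hle : Ideal.map ((Pi.evalAlgHom k (fun _ : Fin s => PowerSeries k) i).comp R.val) I ≤
      Ideal.span {PowerSeries.X ^ (a i + 1)} := by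
    rw [Ideal.map_le_iff_le_comap]
    intro f hf
    rw [Ideal.mem_comap, Ideal.mem_span_singleton, X_pow_dvd_iff]
    intro m hm
    refine coeff_of_lt_order m (lt_of_lt_of_le (b := ((a i + 1 : ℕ) : ℕ∞)) (by exact_mod_cast hm) ?_)
    push_cast
    exact ENat.add_one_le_iff (ENat.natCast_ne_top _) |>.mpr (lt_of_le_of_ne (hge f hf i) (fun h => hne f hf h.symm))
  rw [ha i] at hle
  have h := Ideal.mem_span_singleton.mp (hle (Ideal.mem_span_singleton_self _))
  rw [X_pow_dvd_iff] at h
  simpa [coeff_X_pow] using h (a i) (by omega)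

/-- Truncation of a tuple of power series. -/
noncomputable def trunc (b : Fin s → ℕ) :
    (Fin s → PowerSeries k) →ₗ[k] ((i : Fin s) → Fin (b i) → k) :=
  LinearMap.pi fun i => LinearMap.pi fun m => (PowerSeries.coeff m.val) ∘ₗ LinearMap.proj i

theorem trunc_surjective (b : Fin s → ℕ) : Function.Surjective (trunc (k := k) b) := by
  intro z
  refine ⟨fun i => PowerSeries.mk fun m => if h : m < b i then z i ⟨m, h⟩ else 0, ?_⟩
  funext i m
  simp [trunc, m.2]

theorem mem_ker_trunc (b : Fin s → ℕ) (g : Fin s → PowerSeries k) :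
    g ∈ LinearMap.ker (trunc b) ↔ ∀ i, ((b i : ℕ) : ℕ∞) ≤ (g i).order := by
  rw [LinearMap.mem_ker]
  constructor
  · intro h i
    refine nat_le_order _ _ fun m hm => ?_
    exact congrFun (congrFun h i) ⟨m, hm⟩
  · intro h
    funext i m
    exact coeff_of_lt_order _ (lt_of_lt_of_le (by exact_mod_cast m.2) (h i))

theorem finite_and_finrank_quot_ker {V W : Type u} [AddCommGroup V] [Module k V] [AddCommGroup W]
    [Module k W] [Module.Finite k W] (f : V →ₗ[k] W) (hf : Function.Surjective f) :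
    Module.Finite k (V ⧸ LinearMap.ker f) ∧ Module.finrank k (V ⧸ LinearMap.ker f) = Module.finrank k W :=
  ⟨Module.Finite.equiv (f.quotKerEquivOfSurjective hf).symm, (f.quotKerEquivOfSurjective hf).finrank_eq⟩

theorem finite_quot_ker_trunc (b : Fin s → ℕ) :
    Module.Finite k ((Fin s → PowerSeries k) ⧸ LinearMap.ker (trunc (k := k) b)) :=
  (finite_and_finrank_quot_ker (V := Fin s → PowerSeries k) (W := (i : Fin s) → Fin (b i) → k)
    (trunc (k := k) b) (trunc_surjective b)).1

theorem finrank_quot_ker_trunc (b : Fin s → ℕ) :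
    Module.finrank k ((Fin s → PowerSeries k) ⧸ LinearMap.ker (trunc (k := k) b)) = ∑ i, b i := by
  refine ((finite_and_finrank_quot_ker (V := Fin s → PowerSeries k) (W := (i : Fin s) → Fin (b i) → k)
    (trunc (k := k) b) (trunc_surjective b)).2).trans ?_
  rw [Module.finrank_pi_fintype]
  simp

end Groth.Agent.H27Hilb
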