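import Groth.Agent.H27Hilb.Branches

/-! Multiplication by a uniformizer on one branch. -/

namespace Groth.Agent.H27Hilb

open PowerSeries

universe u
variable {k : Type u} [Field k] {s : ℕ} (R : Subalgebra k (Fin s → PowerSeries k))

/-- The image in the product of an ideal. -/
noncomputable abbrev img (I : Ideal ↥R) : Submodule k (Fin s → PowerSeries k) :=
  (I.restrictScalars k).map R.val.toLinearMap

theorem colength_iff (hfin : Module.Finite k ((Fin s → PowerSeries k) ⧸ Subalgebra.toSubmodule R))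
    (I : Ideal ↥R) (d : ℕ) :
    (Module.Finite k (↥R ⧸ I) ∧ Module.finrank k (↥R ⧸ I) = d) ↔
      (Module.Finite k ((Fin s → PowerSeries k) ⧸ img R I) ∧
        Module.finrank k ((Fin s → PowerSeries k) ⧸ img R I) =
          d + Module.finrank k ((Fin s → PowerSeries k) ⧸ Subalgebra.toSubmodule R)) := by
  let R' : Submodule k (Fin s → PowerSeries k) := Subalgebra.toSubmodule R
  let W := img R I
  have hWR : W ≤ R' := by rintro _ ⟨f, -, rfl⟩; exact f.2
  let φ : ↥R →ₗ[k] (Fin s → PowerSeries k) ⧸ W := W.mkQ ∘ₗ R.val.toLinearMap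
  have hker : LinearMap.ker φ = I.restrictScalars k := by
    ext f
    simp only [φ, W, LinearMap.mem_ker, LinearMap.comp_apply, Submodule.mkQ_apply,
      Submodule.Quotient.mk_eq_zero, Submodule.restrictScalars_mem]
    exact ⟨fun ⟨f', hf', he⟩ => (Subtype.ext he : f' = f) ▸ hf', fun hf => ⟨f, hf, rfl⟩⟩
  have hrange : LinearMap.range φ = R'.map W.mkQ := by
    rw [LinearMap.range_comp]
    congr 1
    ext g
    exact ⟨fun ⟨f, hf⟩ => hf ▸ f.2, fun hg => ⟨⟨g, hg⟩, rfl⟩⟩
  let e : (↥R ⧸ I) ≃ₗ[k] R'.map W.mkQ :=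
    (Submodule.Quotient.restrictScalarsEquiv k I).symm ≪≫ₗ Submodule.quotEquivOfEq _ _ hker.symm ≪≫ₗ
      φ.quotKerEquivRange ≪≫ₗ LinearEquiv.ofEq _ _ hrange
  let q := Submodule.quotientQuotientEquivQuotient W R' hWR
  haveI : Module.Finite k (((Fin s → PowerSeries k) ⧸ W) ⧸ R'.map W.mkQ) := Module.Finite.equiv q.symm
  constructor
  · rintro ⟨h1, h2⟩
    haveI : Module.Finite k (R'.map W.mkQ) := Module.Finite.equiv e
    haveI h3 : Module.Finite k ((Fin s → PowerSeries k) ⧸ W) :=
      Module.Finite.of_submodule_quotient (R'.map W.mkQ)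
    refine ⟨h3, ?_⟩
    rw [← Submodule.finrank_quotient_add_finrank (R'.map W.mkQ), q.finrank_eq, ← e.finrank_eq, h2,
      add_comm]
  · rintro ⟨h1, h2⟩
    haveI : Module.Finite k ((Fin s → PowerSeries k) ⧸ W) := h1
    refine ⟨Module.Finite.equiv e.symm, ?_⟩
    have h4 : Module.finrank k ((Fin s → PowerSeries k) ⧸ Subalgebra.toSubmodule R) +
        Module.finrank k (↥R ⧸ I) = d + Module.finrank k ((Fin s → PowerSeries k) ⧸ Subalgebra.toSubmodule R) := by
      rw [← h2, e.finrank_eq, ← q.finrank_eq]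
      exact Submodule.finrank_quotient_add_finrank (R'.map W.mkQ)
    omega

variable (j : Fin s)

/-- The uniformizer on the branch `j`. -/
noncomputable def xi : (Fin s → PowerSeries k) →ₗ[k] (Fin s → PowerSeries k) :=
  LinearMap.mulLeft k (Pi.mulSingle j PowerSeries.X)

theorem xi_apply (g : Fin s → PowerSeries k) (i : Fin s) :
    xi j g i = if i = j then PowerSeries.X * g i else g i := by
  rcases eq_or_ne i j with rfl | h
  · simp [xi]
  · simp [xi, h]

theorem xi_injective : Function.Injective (xi (k := k) (s := s) j) := by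
  intro g g' h
  funext i
  have := congrFun h i
  rw [xi_apply, xi_apply] at this
  split_ifs at this
  · exact mul_left_cancel₀ PowerSeries.X_ne_zero this
  · exact this

theorem range_xi : LinearMap.range (xi (k := k) j) = LinearMap.ker (trunc (Pi.single j 1)) := by
  ext g
  rw [mem_ker_trunc]
  constructor
  · rintro ⟨f, rfl⟩ i
    rcases eq_or_ne i j with rfl | h
    · rw [xi_apply, if_pos rfl, Pi.single_eq_same]
      exact nat_le_order _ _ fun m hm => by
        obtain rfl : m = 0 := by omega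
        simp
    · simp [h]
  · intro h
    have hd : PowerSeries.X ∣ g j := by
      rw [X_dvd_iff, ← coeff_zero_eq_constantCoeff_apply]
      refine coeff_of_lt_order 0 (lt_of_lt_of_le ?_ (h j))
      simp
    obtain ⟨v, hv⟩ := hd
    refine ⟨Function.update g j v, funext fun i => ?_⟩
    rw [xi_apply]
    rcases eq_or_ne i j with rfl | hi
    · rw [if_pos rfl, Function.update_self, hv]
    · rw [if_neg hi, Function.update_of_ne hi]

theorem finrank_quot_map_xi (W : Submodule k (Fin s → PowerSeries k)) (m : ℕ) :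
    (Module.Finite k ((Fin s → PowerSeries k) ⧸ W.map (xi j)) ∧
        Module.finrank k ((Fin s → PowerSeries k) ⧸ W.map (xi j)) = m + 1) ↔
      (Module.Finite k ((Fin s → PowerSeries k) ⧸ W) ∧
        Module.finrank k ((Fin s → PowerSeries k) ⧸ W) = m) := by
  let W' := W.map (xi j)
  let Er := LinearMap.range (xi (k := k) j)
  have hW' : W' ≤ Er := LinearMap.map_le_range
  let φ := W'.mkQ ∘ₗ xi j
  have hker : LinearMap.ker φ = W := by
    rw [LinearMap.ker_comp, Submodule.ker_mkQ]
    exact Submodule.comap_map_eq_of_injective (xi_injective j) W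
  have hrange : LinearMap.range φ = Er.map W'.mkQ := LinearMap.range_comp _ _
  let e : ((Fin s → PowerSeries k) ⧸ W) ≃ₗ[k] Er.map W'.mkQ :=
    Submodule.quotEquivOfEq _ _ hker.symm ≪≫ₗ φ.quotKerEquivRange ≪≫ₗ LinearEquiv.ofEq _ _ hrange
  let q := (Submodule.quotientQuotientEquivQuotient W' Er hW').trans
    (Submodule.quotEquivOfEq _ _ (range_xi j))
  haveI := finite_quot_ker_trunc (k := k) (Pi.single j 1)
  haveI : Module.Finite k (((Fin s → PowerSeries k) ⧸ W') ⧸ Er.map W'.mkQ) := Module.Finite.equiv q.symm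
  have hone : Module.finrank k (((Fin s → PowerSeries k) ⧸ W') ⧸ Er.map W'.mkQ) = 1 := by
    rw [q.finrank_eq, finrank_quot_ker_trunc]
    simp
  constructor
  · rintro ⟨h1, h2⟩
    haveI : Module.Finite k ((Fin s → PowerSeries k) ⧸ W') := h1
    refine ⟨Module.Finite.equiv e.symm, ?_⟩
    rw [← Submodule.finrank_quotient_add_finrank (Er.map W'.mkQ), hone, ← e.finrank_eq] at h2
    omega
  · rintro ⟨h1, h2⟩
    haveI : Module.Finite k (Er.map W'.mkQ) := Module.Finite.equiv e
    haveI h3 : Module.Finite k ((Fin s → PowerSeries k) ⧸ W') :=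
      Module.Finite.of_submodule_quotient (Er.map W'.mkQ)
    refine ⟨h3, ?_⟩
    rw [← Submodule.finrank_quotient_add_finrank (Er.map W'.mkQ), hone, ← e.finrank_eq, h2, add_comm]

/-- The branch ideals of a shifted ideal. -/
theorem map_eval_shift {I J : Ideal ↥R}
    (h : Subtype.val '' (J : Set ↥R) = xi j '' (Subtype.val '' (I : Set ↥R))) (i : Fin s) :
    Ideal.map ((Pi.evalAlgHom k (fun _ : Fin s => PowerSeries k) i).comp R.val) J =
      Ideal.span {if i = j then PowerSeries.X else 1} *
        Ideal.map ((Pi.evalAlgHom k (fun _ : Fin s => PowerSeries k) i).comp R.val) I := by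
  have himg : ∀ M : Ideal ↥R, ((Pi.evalAlgHom k (fun _ : Fin s => PowerSeries k) i).comp R.val) ''
      (M : Set ↥R) = (fun g : Fin s → PowerSeries k => g i) '' (Subtype.val '' (M : Set ↥R)) := by
    intro M
    rw [Set.image_image]
    rfl
  simp only [Ideal.map, himg, h, Ideal.span_mul_span, Set.image_image]
  congr 1
  ext g
  simp only [Set.mem_image, Set.singleton_mul, Set.mem_setOf_eq]
  constructor
  · rintro ⟨f, hf, rfl⟩
    refine ⟨f.1 i, ⟨f, hf, rfl⟩, ?_⟩
    rw [xi_apply]
    split_ifs <;> simp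
  · rintro ⟨_, ⟨f, hf, rfl⟩, rfl⟩
    refine ⟨f, hf, ?_⟩
    rw [xi_apply]
    split_ifs <;> simp

theorem img_eq_of_image {I J : Ideal ↥R}
    (h : Subtype.val '' (J : Set ↥R) = xi j '' (Subtype.val '' (I : Set ↥R))) :
    img R J = (img R I).map (xi j) := by
  ext g
  show g ∈ Subtype.val '' (J : Set ↥R) ↔ g ∈ xi j '' (Subtype.val '' (I : Set ↥R))
  rw [h]

variable (c : Fin s → ℕ)

theorem mem_of_sub_supported
    (hc : ∀ f : Fin s → PowerSeries k,
      (∀ g : Fin s → PowerSeries k, g * f ∈ R) ↔ ∀ i, ((c i : ℕ) : ℕ∞) ≤ (f i).order)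
    {g f : Fin s → PowerSeries k} (hf : f ∈ R) (he : ∀ i, i ≠ j → g i = f i)
    (hj : ((c j : ℕ) : ℕ∞) ≤ (g j - f j).order) : g ∈ R := by
  have h := (hc (g - f)).mpr fun i => ?_
  · have h1 := add_mem (h 1) hf
    rwa [one_mul, sub_add_cancel] at h1
  · rcases eq_or_ne i j with rfl | hi
    · exact hj
    · simp [he i hi]

end Groth.Agent.H27Hilb
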